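import Groth.Agent.IndSpread.Basic
import Groth.Agent.AmpleStage.Basic
import Groth.Agent.FieldAmple.Basic
import Groth.Agent.LimProper.Main
import Groth.Agent.S12416
import Groth.Agent.S4418
import Groth.Agent.S4421
import Groth.Prelude.Def_RelProj

/-!
The loci of points over which a morphism is projective, quasi-projective, or a module relatively ample
are ind-constructible.
-/

set_option autoImplicit false
set_option linter.style.haveILetI false
set_option linter.unusedSectionVars false
set_option backward.isDefEq.respectTransparency false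
universe u
open CategoryTheory CategoryTheory.Limits AlgebraicGeometry TopologicalSpace

noncomputable section

namespace Groth.Agent.IndSpread

variable {X Y S : Scheme.{u}} (f : X ⟶ Y) (g : Y ⟶ S)

/-- the morphism obtained from `f` by base change to `T` -/
abbrev bcMor {T : Scheme.{u}} (h : T ⟶ S) : pullback f (pullback.fst g h) ⟶ pullback g h :=
  pullback.snd f (pullback.fst g h)

variable {f g}

/-- comparison of two base changes of a morphism -/
theorem exists_isPullback_of_lift {X₁ Y₁ X₂ Y₂ : Scheme.{u}} {eX : X₁ ⟶ X} {f₁ : X₁ ⟶ Y₁} {eY : Y₁ ⟶ Y}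
    {eX' : X₂ ⟶ X} {f₂ : X₂ ⟶ Y₂} {eY' : Y₂ ⟶ Y} (hX : IsPullback eX f₁ f eY) (hX' : IsPullback eX' f₂ f eY')
    (lY : Y₂ ⟶ Y₁) (hl : lY ≫ eY = eY') :
    ∃ lX : X₂ ⟶ X₁, lX ≫ eX = eX' ∧ IsPullback lX f₂ f₁ lY := by
  refine ⟨hX.lift eX' (f₂ ≫ lY) (by rw [Category.assoc, hl, hX'.w]), hX.lift_fst _ _ _, ?_⟩
  exact IsPullback.of_right (by rw [hX.lift_fst, hl]; exact hX') (hX.lift_snd _ _ _) hX

theorem transfer_relAmple {X₁ Y₁ X₂ Y₂ : Scheme.{u}} {eX : X₁ ⟶ X} {f₁ : X₁ ⟶ Y₁} {eY : Y₁ ⟶ Y}
    {eX' : X₂ ⟶ X} {f₂ : X₂ ⟶ Y₂} {eY' : Y₂ ⟶ Y} [QuasiCompact f₁] (hX : IsPullback eX f₁ f eY)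
    (hX' : IsPullback eX' f₂ f eY') (lY : Y₂ ⟶ Y₁) (hl : lY ≫ eY = eY') {L : X.Modules}
    (h : RelAmple.IsRelAmple f₁ ((Scheme.Modules.pullback eX).obj L)) :
    RelAmple.IsRelAmple f₂ ((Scheme.Modules.pullback eX').obj L) := by
  obtain ⟨lX, hlX, sq⟩ := exists_isPullback_of_lift hX hX' lY hl
  exact TMul.isRelAmple_congr ((ModDesc.trIso lX eX hlX).app L) (AmpleStage.isRelAmple_of_isPullback sq h)

theorem transfer_quasiProjective {X₁ Y₁ X₂ Y₂ : Scheme.{u}} {eX : X₁ ⟶ X} {f₁ : X₁ ⟶ Y₁} {eY : Y₁ ⟶ Y}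
    {eX' : X₂ ⟶ X} {f₂ : X₂ ⟶ Y₂} {eY' : Y₂ ⟶ Y} (hX : IsPullback eX f₁ f eY)
    (hX' : IsPullback eX' f₂ f eY') (lY : Y₂ ⟶ Y₁) (hl : lY ≫ eY = eY')
    (h : RelProj.IsQuasiProjective f₁) : RelProj.IsQuasiProjective f₂ := by
  obtain ⟨lX, -, sq⟩ := exists_isPullback_of_lift hX hX' lY hl
  obtain ⟨h1, h2, L, hL⟩ := h
  haveI := h2
  exact ⟨MorphismProperty.of_isPullback (P := @LocallyOfFiniteType) sq h1,
    MorphismProperty.of_isPullback (P := @QuasiCompact) sq h2, _, AmpleStage.isRelAmple_of_isPullback sq hL⟩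

theorem transfer_projective {X₁ Y₁ X₂ Y₂ : Scheme.{u}} {eX : X₁ ⟶ X} {f₁ : X₁ ⟶ Y₁} {eY : Y₁ ⟶ Y}
    {eX' : X₂ ⟶ X} {f₂ : X₂ ⟶ Y₂} {eY' : Y₂ ⟶ Y} [CompactSpace Y₂] [QuasiSeparatedSpace Y₂]
    (hX : IsPullback eX f₁ f eY)
    (hX' : IsPullback eX' f₂ f eY') (lY : Y₂ ⟶ Y₁) (hl : lY ≫ eY = eY')
    (h : RelProj.IsProjective f₁) : RelProj.IsProjective f₂ := by
  obtain ⟨h1, h2⟩ := S4418.result f₁ h
  obtain ⟨lX, -, sq⟩ := exists_isPullback_of_lift hX hX' lY hl
  haveI : IsProper f₂ := MorphismProperty.of_isPullback (P := @IsProper) sq h2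
  exact S12416.result f₂ (transfer_quasiProjective hX hX' lY hl h1)

section stage

variable [QuasiCompact g] [QuasiSeparated g] [QuasiCompact f] [QuasiSeparated f] [LocallyOfFiniteType f]
variable {I : Type u} [SmallCategory I] [IsCofiltered I] (D : I ⥤ Scheme.{u})
  [∀ {i j} (φ : i ⟶ j), IsAffineHom (D.map φ)] [∀ i, IsAffine (D.obj i)] (c : Cone D) (hc : IsLimit c) {i₀ : I}
  (h₀ : D.obj i₀ ⟶ S)

/-- the limit target -/
abbrev limY : Scheme.{u} := pullback (pullback.snd g h₀) (c.π.app i₀)

/-- the limit source -/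
abbrev limX : Scheme.{u} :=
  pullback (bcMor f g h₀) (pullback.fst (pullback.snd g h₀) (c.π.app i₀))

theorem sq_lim : IsPullback
    (pullback.fst (bcMor f g h₀) (pullback.fst (pullback.snd g h₀) (c.π.app i₀)) ≫ pullback.fst f (pullback.fst g h₀))
    (pullback.snd (bcMor f g h₀) (pullback.fst (pullback.snd g h₀) (c.π.app i₀))) f
    (pullback.fst (pullback.snd g h₀) (c.π.app i₀) ≫ pullback.fst g h₀) :=
  (IsPullback.of_hasPullback _ _).paste_horiz (IsPullback.of_hasPullback _ _)

/-- from the limit to the chosen base change -/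
def toLim : pullback g (c.π.app i₀ ≫ h₀) ⟶ limY (g := g) D c h₀ :=
  ((IsPullback.of_hasPullback (pullback.snd g h₀) (c.π.app i₀)).paste_horiz
    (IsPullback.of_hasPullback g h₀)).lift (pullback.fst _ _) (pullback.snd _ _) pullback.condition

/-- from the chosen base change to the limit -/
def ofLim : limY (g := g) D c h₀ ⟶ pullback g (c.π.app i₀ ≫ h₀) :=
  pullback.lift (pullback.fst _ _ ≫ pullback.fst g h₀) (pullback.snd _ _)
    (by rw [Category.assoc, pullback.condition, ← Category.assoc, pullback.condition, Category.assoc])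

theorem ofLim_fst : ofLim (g := g) D c h₀ ≫ pullback.fst g (c.π.app i₀ ≫ h₀) =
    pullback.fst (pullback.snd g h₀) (c.π.app i₀) ≫ pullback.fst g h₀ := pullback.lift_fst _ _ _

/-- from the chosen base change to a stage -/
theorem exists_to_stage {Yj : Scheme.{u}} {j : I} (φ : j ⟶ i₀) {pY : Yj ⟶ pullback g h₀} {gj : Yj ⟶ D.obj j}
    (hYj : IsPullback pY gj (pullback.snd g h₀) (D.map φ)) :
    ∃ lY : pullback g (D.map φ ≫ h₀) ⟶ Yj, lY ≫ pY ≫ pullback.fst g h₀ = pullback.fst _ _ :=
  ⟨(hYj.paste_horiz (IsPullback.of_hasPullback g h₀)).lift (pullback.fst _ _) (pullback.snd _ _) pullback.condition,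
    IsPullback.lift_fst _ _ _ _⟩

include hc in
theorem relAmple_stage {L : X.Modules} (hL : PicF.IsInvertible L)
    (h : RelAmple.IsRelAmple (bcMor f g (c.π.app i₀ ≫ h₀))
      ((Scheme.Modules.pullback (pullback.fst f (pullback.fst g (c.π.app i₀ ≫ h₀)))).obj L)) :
    ∃ (j : I) (φ : j ⟶ i₀), RelAmple.IsRelAmple (bcMor f g (D.map φ ≫ h₀))
      ((Scheme.Modules.pullback (pullback.fst f (pullback.fst g (D.map φ ≫ h₀)))).obj L) := by
  haveI : CompactSpace (pullback g h₀ : Scheme.{u}) := QuasiCompact.compactSpace_of_compactSpace (pullback.snd g h₀)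
  have h' := transfer_relAmple (IsPullback.of_hasPullback f _) (sq_lim D c h₀) _ (ofLim_fst D c h₀) h
  obtain ⟨l, Xj, Yj, fj, gj, pY, pX, hYj, hXj, hj⟩ := AmpleStage.exists_isRelAmple_stage D c hc
    (bcMor f g h₀) (pullback.snd g h₀) (IsPullback.of_hasPullback _ _) (IsPullback.of_hasPullback _ _)
    (PicLoc.isInvertible_pullback (pullback.fst f (pullback.fst g h₀)) hL)
    (TMul.isRelAmple_congr ((ModDesc.trIso _ _ rfl).app L).symm h')
  obtain ⟨lY, hlY⟩ := exists_to_stage D h₀ l.hom hYj
  haveI : QuasiCompact fj := hj.1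
  exact ⟨l.left, l.hom, transfer_relAmple (hXj.paste_horiz (IsPullback.of_hasPullback f _))
    (IsPullback.of_hasPullback f _) lY hlY (TMul.isRelAmple_congr ((ModDesc.trIso _ _ rfl).app L) hj)⟩

include hc in
theorem quasiProjective_stage' (h : RelProj.IsQuasiProjective (bcMor f g (c.π.app i₀ ≫ h₀))) :
    ∃ l : Over i₀, RelProj.IsQuasiProjective (LimDesc.stageMap D (pullback.snd g h₀) (bcMor f g h₀) l) := by
  haveI : CompactSpace (pullback g h₀ : Scheme.{u}) := QuasiCompact.compactSpace_of_compactSpace (pullback.snd g h₀)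
  haveI : QuasiSeparatedSpace (pullback g h₀ : Scheme.{u}) := quasiSeparatedSpace_of_quasiSeparated (pullback.snd g h₀)
  haveI : CompactSpace ↑(pullback f (pullback.fst g h₀)) :=
    QuasiCompact.compactSpace_of_compactSpace (bcMor f g h₀)
  haveI : QuasiSeparatedSpace ↑(pullback f (pullback.fst g h₀)) :=
    quasiSeparatedSpace_of_quasiSeparated (bcMor f g h₀)
  obtain ⟨-, -, L', hL'⟩ := transfer_quasiProjective (IsPullback.of_hasPullback f _) (sq_lim D c h₀) _
    (ofLim_fst D c h₀) h
  let g₀ := pullback.snd g h₀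
  let f₀ := bcMor f g h₀
  have hY : IsPullback (pullback.fst g₀ (c.π.app i₀)) (pullback.snd g₀ (c.π.app i₀)) g₀ (c.π.app i₀) :=
    IsPullback.of_hasPullback _ _
  have hX : IsPullback (pullback.fst f₀ (pullback.fst g₀ (c.π.app i₀))) (pullback.snd f₀ (pullback.fst g₀ (c.π.app i₀)))
      f₀ (pullback.fst g₀ (c.π.app i₀)) := IsPullback.of_hasPullback _ _
  let hXS := LimDesc.isPullback_comp D g₀ c hY f₀ hX
  let E := LimDesc.tower D (f₀ ≫ g₀)
  haveI : ∀ j, CompactSpace (E.obj j) := LimDesc.compactSpace_stage D (f₀ ≫ g₀)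
  haveI : ∀ j, QuasiSeparatedSpace (E.obj j) := LimDesc.quasiSeparatedSpace_stage D (f₀ ≫ g₀)
  have hcE := LimDesc.isLimitTowerCone D (f₀ ≫ g₀) c hXS hc
  have hinv := TMul.isInvertible_of_isRelAmple hL'
  haveI : Coh.IsQCoh L' := TMul.isQCoh_of_isInvertible hinv
  have hfp : CohB1.IsFP L' := LocFree.isFP_of_isFinLocFree (FieldAmple.isFinLocFree_of_isInvertible hinv)
  obtain ⟨i, -, G, hG, hGfp, ⟨e⟩⟩ := ModDesc.exists_descend (i₀ := Over.mk (𝟙 i₀)) hcE hfp
  haveI := hG
  obtain ⟨j, φ, hj⟩ := ModDesc.exists_isFinLocFreeOfRank_stage E _ hcE hGfp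
    (S3590.rankOne_of_isInvertible (FieldAmple.isInvertible_of_iso e.symm hinv))
  have hGj : PicF.IsInvertible ((Scheme.Modules.pullback (E.map φ)).obj G) := ZeroSch.isInvertible_of_rankOne hj
  haveI : CompactSpace (LimDesc.stage D g₀ j) := LimDesc.compactSpace_stage D g₀ j
  haveI : QuasiCompact (LimDesc.stageMap D g₀ f₀ j) :=
    MorphismProperty.of_isPullback (P := @QuasiCompact) (LimDesc.isPullback_stageMap D g₀ f₀ j) inferInstance
  haveI : QuasiSeparated (LimDesc.stageMap D g₀ f₀ j) :=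
    MorphismProperty.of_isPullback (P := @QuasiSeparated) (LimDesc.isPullback_stageMap D g₀ f₀ j) inferInstance
  obtain ⟨l, Xl, Yl, fl, gl, pY, pX, hYl, hXl, hl⟩ := AmpleStage.exists_isRelAmple_stage D c hc
    (LimDesc.stageMap D g₀ f₀ j) (LimDesc.toStage D g₀ j) (LimDesc.isPullback_proj D g₀ c hY j)
    (LimDesc.isPullback_proj_stageMap D g₀ c hY f₀ hX j) hGj
    (TMul.isRelAmple_congr (e.symm ≪≫
      ((ModDesc.trIso ((LimDesc.towerCone D (f₀ ≫ g₀) c hXS).π.app j) (E.map φ)
        ((LimDesc.towerCone D (f₀ ≫ g₀) c hXS).w φ)).app G).symm) hL')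
  let m : Over i₀ := Over.mk (l.hom ≫ j.hom)
  have hYm : IsPullback (pY ≫ LimDesc.toBase D g₀ j) gl g₀ (D.map m.hom) := by
    rw [show D.map m.hom = D.map l.hom ≫ D.map j.hom from D.map_comp _ _]
    exact hYl.paste_horiz (LimDesc.isPullback_stage D g₀ j)
  haveI : LocallyOfFiniteType fl := MorphismProperty.of_isPullback (P := @LocallyOfFiniteType)
    (hXl.paste_horiz (LimDesc.isPullback_stageMap D g₀ f₀ j)) inferInstance
  refine ⟨m, transfer_quasiProjective (hXl.paste_horiz (LimDesc.isPullback_stageMap D g₀ f₀ j))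
    (LimDesc.isPullback_stageMap D g₀ f₀ m) (hYm.lift (LimDesc.toBase D g₀ m) (LimDesc.toStage D g₀ m)
      (LimDesc.isPullback_stage D g₀ m).w) (IsPullback.lift_fst _ _ _ _) ⟨inferInstance, hl.1, _, hl⟩⟩

include hc in
theorem quasiProjective_stage (h : RelProj.IsQuasiProjective (bcMor f g (c.π.app i₀ ≫ h₀))) :
    ∃ (j : I) (φ : j ⟶ i₀), RelProj.IsQuasiProjective (bcMor f g (D.map φ ≫ h₀)) := by
  obtain ⟨l, hl⟩ := quasiProjective_stage' D c hc h₀ h
  obtain ⟨lY, hlY⟩ := exists_to_stage D h₀ l.hom (LimDesc.isPullback_stage D (pullback.snd g h₀) l)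
  exact ⟨l.left, l.hom, transfer_quasiProjective
    ((LimDesc.isPullback_stageMap D (pullback.snd g h₀) (bcMor f g h₀) l).paste_horiz
      (IsPullback.of_hasPullback f _)) (IsPullback.of_hasPullback f _) lY hlY hl⟩

include hc in
theorem projective_stage (h : RelProj.IsProjective (bcMor f g (c.π.app i₀ ≫ h₀))) :
    ∃ (j : I) (φ : j ⟶ i₀), RelProj.IsProjective (bcMor f g (D.map φ ≫ h₀)) := by
  haveI : CompactSpace (pullback g h₀ : Scheme.{u}) := QuasiCompact.compactSpace_of_compactSpace (pullback.snd g h₀)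
  obtain ⟨hq, hp⟩ := S4418.result _ h
  obtain ⟨lX, -, sq⟩ := exists_isPullback_of_lift (IsPullback.of_hasPullback f _) (sq_lim (f := f) (g := g) D c h₀) (ofLim (g := g) D c h₀)
    (ofLim_fst (g := g) D c h₀)
  haveI : IsProper (pullback.snd (bcMor f g h₀) (pullback.fst (pullback.snd g h₀) (c.π.app i₀))) :=
    MorphismProperty.of_isPullback (P := @IsProper) sq hp
  obtain ⟨a, ha⟩ := LimProper.exists_isProper D c hc (bcMor f g h₀) (pullback.snd g h₀)
    (IsPullback.of_hasPullback _ _) (IsPullback.of_hasPullback _ _)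
  obtain ⟨b, hb⟩ := quasiProjective_stage' D c hc h₀ hq
  obtain ⟨l, u, v, -⟩ := IsCofilteredOrEmpty.cone_objs a b
  obtain ⟨lY, hlY⟩ := exists_to_stage D h₀ l.hom (LimDesc.isPullback_stage D (pullback.snd g h₀) l)
  have hl : RelProj.IsProjective (LimDesc.stageMap D (pullback.snd g h₀) (bcMor f g h₀) l) := by
    haveI : CompactSpace (LimDesc.stage D (pullback.snd g h₀) l) := LimDesc.compactSpace_stage D _ l
    haveI : QuasiSeparatedSpace (pullback g h₀ : Scheme.{u}) := quasiSeparatedSpace_of_quasiSeparated (pullback.snd g h₀)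
    haveI : QuasiSeparatedSpace (LimDesc.stage D (pullback.snd g h₀) l) := LimDesc.quasiSeparatedSpace_stage D _ l
    haveI : IsProper (LimDesc.stageMap D (pullback.snd g h₀) (bcMor f g h₀) l) :=
      MorphismProperty.of_isPullback (P := @IsProper) (LimDesc.isPullback_trans_stageMap D _ _ u) ha
    exact S12416.result _ (transfer_quasiProjective (LimDesc.isPullback_stageMap D _ _ b)
      (LimDesc.isPullback_stageMap D _ _ l) (LimDesc.trans D _ v) (LimDesc.trans_toBase D _ v) hb)
  haveI : CompactSpace ↑(pullback g (D.map l.hom ≫ h₀)) :=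
    QuasiCompact.compactSpace_of_compactSpace (pullback.snd g _)
  haveI : QuasiSeparatedSpace ↑(pullback g (D.map l.hom ≫ h₀)) :=
    quasiSeparatedSpace_of_quasiSeparated (pullback.snd g _)
  exact ⟨l.left, l.hom, transfer_projective
    ((LimDesc.isPullback_stageMap D (pullback.snd g h₀) (bcMor f g h₀) l).paste_horiz
      (IsPullback.of_hasPullback f _)) (IsPullback.of_hasPullback f _) lY hlY hl⟩

end stage

variable (f g)

/-- the morphism of fibres in the form used by the statements -/
theorem isPullback_lift {T : Scheme.{u}} (h : T ⟶ S) :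
    IsPullback (pullback.fst (f ≫ g) h)
      (pullback.lift (pullback.fst (f ≫ g) h ≫ f) (pullback.snd (f ≫ g) h)
        ((Category.assoc _ _ _).trans pullback.condition) : pullback (f ≫ g) h ⟶ pullback g h)
      f (pullback.fst g h) := by
  refine IsPullback.of_bot ?_ (pullback.lift_fst _ _ _).symm (IsPullback.of_hasPullback g h)
  rw [pullback.lift_snd]
  exact IsPullback.of_hasPullback _ _

theorem indCons_relAmple [QuasiCompact g] [QuasiSeparated g] [LocallyOfFiniteType (f ≫ g)]
    [QuasiCompact (f ≫ g)] [QuasiSeparated (f ≫ g)] {L : X.Modules} (hL : PicF.IsInvertible L) :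
    ProCons.IsIndConstructible {s : S |
      RelAmple.IsRelAmple
        (pullback.lift (pullback.fst (f ≫ g) (S.fromSpecResidueField s) ≫ f) (pullback.snd (f ≫ g) (S.fromSpecResidueField s))
          ((Category.assoc _ _ _).trans pullback.condition) :
        pullback (f ≫ g) (S.fromSpecResidueField s) ⟶ pullback g (S.fromSpecResidueField s))
        ((Scheme.Modules.pullback (pullback.fst (f ≫ g) (S.fromSpecResidueField s))).obj L)} := by
  haveI : QuasiSeparated f := QuasiSeparated.of_comp f g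
  haveI : QuasiCompact f := QuasiCompact.of_comp f g
  haveI : LocallyOfFiniteType f := locallyOfFiniteType_of_comp f g
  let Q : ∀ {T : Scheme.{u}}, (T ⟶ S) → Prop := fun h => RelAmple.IsRelAmple (bcMor f g h)
    ((Scheme.Modules.pullback (pullback.fst f (pullback.fst g h))).obj L)
  have key := indCons (S := S) @Q (fun a h hh => transfer_relAmple (IsPullback.of_hasPullback f _)
      (IsPullback.of_hasPullback f _) (pullback.lift (pullback.fst g (a ≫ h)) (pullback.snd g _ ≫ a)
        (by rw [Category.assoc, pullback.condition])) (pullback.lift_fst _ _ _) hh)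
    (by intro I _ _ D _ _ c hc i₀ h₀ hh; exact relAmple_stage D c hc h₀ hL hh)
  convert key using 2
  ext s
  have sq := isPullback_lift f g (S.fromSpecResidueField s)
  constructor
  · intro h
    haveI := h.1
    exact transfer_relAmple sq (IsPullback.of_hasPullback f _) (𝟙 _) (Category.id_comp _) h
  · intro h
    exact transfer_relAmple (IsPullback.of_hasPullback f _) sq (𝟙 _) (Category.id_comp _) h

theorem indCons_quasiProjective [QuasiCompact g] [QuasiSeparated g] [LocallyOfFiniteType (f ≫ g)]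
    [QuasiCompact (f ≫ g)] [QuasiSeparated (f ≫ g)] :
    ProCons.IsIndConstructible {s : S |
      RelProj.IsQuasiProjective
        (pullback.lift (pullback.fst (f ≫ g) (S.fromSpecResidueField s) ≫ f) (pullback.snd (f ≫ g) (S.fromSpecResidueField s))
          ((Category.assoc _ _ _).trans pullback.condition) :
        pullback (f ≫ g) (S.fromSpecResidueField s) ⟶ pullback g (S.fromSpecResidueField s))} := by
  haveI : QuasiSeparated f := QuasiSeparated.of_comp f g
  haveI : QuasiCompact f := QuasiCompact.of_comp f g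
  haveI : LocallyOfFiniteType f := locallyOfFiniteType_of_comp f g
  let Q : ∀ {T : Scheme.{u}}, (T ⟶ S) → Prop := fun h => RelProj.IsQuasiProjective (bcMor f g h)
  have key := indCons (S := S) @Q (fun a h hh => transfer_quasiProjective (IsPullback.of_hasPullback f _)
      (IsPullback.of_hasPullback f _) (pullback.lift (pullback.fst g (a ≫ h)) (pullback.snd g _ ≫ a)
        (by rw [Category.assoc, pullback.condition])) (pullback.lift_fst _ _ _) hh)
    (by intro I _ _ D _ _ c hc i₀ h₀ hh; exact quasiProjective_stage D c hc h₀ hh)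
  convert key using 2
  ext s
  have sq := isPullback_lift f g (S.fromSpecResidueField s)
  exact ⟨transfer_quasiProjective sq (IsPullback.of_hasPullback f _) (𝟙 _) (Category.id_comp _),
    transfer_quasiProjective (IsPullback.of_hasPullback f _) sq (𝟙 _) (Category.id_comp _)⟩

theorem indCons_projective [QuasiCompact g] [QuasiSeparated g] [LocallyOfFiniteType (f ≫ g)]
    [QuasiCompact (f ≫ g)] [QuasiSeparated (f ≫ g)] :
    ProCons.IsIndConstructible {s : S |
      RelProj.IsProjective
        (pullback.lift (pullback.fst (f ≫ g) (S.fromSpecResidueField s) ≫ f) (pullback.snd (f ≫ g) (S.fromSpecResidueField s))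
          ((Category.assoc _ _ _).trans pullback.condition) :
        pullback (f ≫ g) (S.fromSpecResidueField s) ⟶ pullback g (S.fromSpecResidueField s))} := by
  haveI : QuasiSeparated f := QuasiSeparated.of_comp f g
  haveI : QuasiCompact f := QuasiCompact.of_comp f g
  haveI : LocallyOfFiniteType f := locallyOfFiniteType_of_comp f g
  -- the property asks for a quasi-compact quasi-separated test scheme
  let Q : ∀ {T : Scheme.{u}}, (T ⟶ S) → Prop := fun {T} h => ∀ {T' : Scheme.{u}} (a : T' ⟶ T)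
    [CompactSpace T'] [QuasiSeparatedSpace T'], RelProj.IsProjective (bcMor f g (a ≫ h))
  have qc : ∀ {T : Scheme.{u}} [CompactSpace T] [QuasiSeparatedSpace T] (h : T ⟶ S),
      CompactSpace (pullback g h : Scheme.{u}) ∧ QuasiSeparatedSpace (pullback g h : Scheme.{u}) := fun h =>
    ⟨QuasiCompact.compactSpace_of_compactSpace (pullback.snd g h),
      quasiSeparatedSpace_of_quasiSeparated (pullback.snd g h)⟩
  have move : ∀ {T T' : Scheme.{u}} [CompactSpace T'] [QuasiSeparatedSpace T'] (a : T' ⟶ T) (h : T ⟶ S),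
      RelProj.IsProjective (bcMor f g h) → RelProj.IsProjective (bcMor f g (a ≫ h)) := fun a h hh => by
    obtain ⟨_, _⟩ := qc (a ≫ h)
    exact transfer_projective (IsPullback.of_hasPullback f _)
      (IsPullback.of_hasPullback f _) (pullback.lift (pullback.fst g (a ≫ h)) (pullback.snd g _ ≫ a)
        (by rw [Category.assoc, pullback.condition])) (pullback.lift_fst _ _ _) hh
  have key := indCons (S := S) @Q (fun a h hh => by
      intro T' b _ _
      rw [← Category.assoc]
      exact hh (b ≫ a))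
    (by
      intro I _ _ D _ _ c hc i₀ h₀ hh
      haveI := isAffineHom_π_app D c hc i₀
      haveI : IsAffine c.pt := isAffine_of_isAffineHom (c.π.app i₀)
      obtain ⟨j, φ, hj⟩ := projective_stage (f := f) (g := g) D c hc h₀ (by have := hh (𝟙 c.pt); rwa [Category.id_comp] at this)
      refine ⟨j, φ, ?_⟩
      intro T' b _ _
      exact move b _ hj)
  convert key using 2
  ext s
  have sq := isPullback_lift f g (S.fromSpecResidueField s)
  constructor
  · intro h T' a _ _
    obtain ⟨_, _⟩ := qc (a ≫ S.fromSpecResidueField s)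
    exact transfer_projective sq (IsPullback.of_hasPullback f _)
      (pullback.lift (pullback.fst g (a ≫ S.fromSpecResidueField s)) (pullback.snd g _ ≫ a)
        (by rw [Category.assoc, pullback.condition])) (pullback.lift_fst _ _ _) h
  · intro h
    have h' : RelProj.IsProjective (bcMor f g (S.fromSpecResidueField s)) := by
      have := h (𝟙 _)
      rwa [Category.id_comp] at this
    obtain ⟨_, _⟩ := qc (S.fromSpecResidueField s)
    exact transfer_projective (IsPullback.of_hasPullback f _) sq (𝟙 _) (Category.id_comp _) h'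

end Groth.Agent.IndSpread
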