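import Groth.Agent.ProperModel.Basic
import Groth.Agent.FieldAmple.Basic
import Groth.Agent.AmpleNear.Basic
import Groth.Agent.AmpleStage.Basic
import Groth.Agent.IndSpread.RelAmple

/-!
Fibrewise ampleness for proper morphisms of finite presentation, through a noetherian model.
-/

set_option autoImplicit false
set_option linter.style.haveILetI false
set_option linter.unusedSectionVars false
set_option backward.isDefEq.respectTransparency false
universe u
open CategoryTheory CategoryTheory.Limits AlgebraicGeometry TopologicalSpace Groth.Agent.LimDesc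

noncomputable section

namespace Groth.Agent.IndSpread

/-- A proper morphism of finite presentation to an affine scheme, with an invertible module, comes from a
noetherian base. -/
theorem exists_noetherian_model {A : Type u} [CommRing A] {X : Scheme.{u}} (f : X ⟶ Spec (CommRingCat.of A))
    [IsProper f] [LocallyOfFinitePresentation f] (L : X.Modules) (hL : PicF.IsInvertible L) :
    ∃ (S₀ X₀ : Scheme.{u}) (σ : Spec (CommRingCat.of A) ⟶ S₀) (f₀ : X₀ ⟶ S₀) (q : X ⟶ X₀) (L₀ : X₀.Modules),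
      IsNoetherian S₀ ∧ IsAffine S₀ ∧ IsProper f₀ ∧ IsPullback q f f₀ σ ∧ PicF.IsInvertible L₀ ∧
        Nonempty ((Scheme.Modules.pullback q).obj L₀ ≅ L) := by
  let D := LimModel.fgDiagram A
  let c := LimModel.fgCone A
  let hc := LimModel.fgIsLimit A
  haveI : IsCofiltered (LimModel.FgSub A)ᵒᵖ := isCofiltered_op_of_isFiltered _
  haveI : ∀ {i j : (LimModel.FgSub A)ᵒᵖ} (f : i ⟶ j), IsAffineHom (D.map f) := fun f =>
    inferInstanceAs (IsAffineHom ((LimModel.fgDiagram A).map f))
  haveI : ∀ i : (LimModel.FgSub A)ᵒᵖ, IsAffine (D.obj i) := fun i => inferInstanceAs (IsAffine (Spec _))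
  haveI hnoeth : ∀ i : (LimModel.FgSub A)ᵒᵖ, IsLocallyNoetherian (D.obj i) := fun i => by
    have := Algebra.FiniteType.isNoetherianRing ℤ i.unop.1
      (h := i.unop.1.fg_iff_finiteType.mp i.unop.2)
    exact inferInstanceAs (IsLocallyNoetherian (Spec (CommRingCat.of i.unop.1)))
  let a : X ⟶ c.pt := f
  haveI : IsProper a := ‹IsProper f›
  haveI : LocallyOfFinitePresentation a := ‹LocallyOfFinitePresentation f›
  obtain ⟨i, Xi, fi, g, h1, h2, h3, h4⟩ := LimModel.exists_model D c hc a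
  haveI := h1; haveI := h2; haveI := h3
  have : CompactSpace Xi := QuasiCompact.compactSpace_of_compactSpace fi
  obtain ⟨l, hl⟩ := LimMore.exists_isSeparated_of_compactSpace D c hc fi (𝟙 _) (LimMore.isPullback_id D c) h4
  haveI : IsSeparated (toStage D fi l) := (LimMore.stageMap_id_iff D fi @IsSeparated l).1 hl
  haveI : LocallyOfFinitePresentation (toStage D fi l) :=
    MorphismProperty.of_isPullback (P := @LocallyOfFinitePresentation) (isPullback_stage D fi l) h1
  haveI : QuasiCompact (toStage D fi l) :=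
    MorphismProperty.of_isPullback (P := @QuasiCompact) (isPullback_stage D fi l) h2
  have hl' := isPullback_proj D fi c h4 l
  obtain ⟨k, φ, hk⟩ := ProperModel.exists_isProper_stage D hc (i₀ := l.left) (toStage D fi l) hl'
  let fk := pullback.snd (toStage D fi l) (D.map φ)
  haveI : IsProper fk := hk
  have hk' : IsPullback (proj D (toStage D fi l) c hl' (Over.mk φ)) a fk (c.π.app k) :=
    isPullback_proj D (toStage D fi l) c hl' (Over.mk φ)
  haveI : CompactSpace ↑(pullback (toStage D fi l) (D.map φ)) := QuasiCompact.compactSpace_of_compactSpace fk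
  haveI : QuasiSeparatedSpace ↑(pullback (toStage D fi l) (D.map φ)) := quasiSeparatedSpace_of_quasiSeparated fk
  let E := LimDesc.tower D fk
  haveI : ∀ j, CompactSpace (E.obj j) := LimDesc.compactSpace_stage D fk
  haveI : ∀ j, QuasiSeparatedSpace (E.obj j) := LimDesc.quasiSeparatedSpace_stage D fk
  have hcE := LimDesc.isLimitTowerCone D fk c hk' hc
  haveI : Coh.IsQCoh L := TMul.isQCoh_of_isInvertible hL
  have hfp : CohB1.IsFP L := LocFree.isFP_of_isFinLocFree (FieldAmple.isFinLocFree_of_isInvertible hL)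
  obtain ⟨j, -, G, hG, hGfp, ⟨e⟩⟩ := ModDesc.exists_descend (i₀ := Over.mk (𝟙 k)) hcE hfp
  haveI := hG
  obtain ⟨m, ψ, hm⟩ := ModDesc.exists_isFinLocFreeOfRank_stage E _ hcE hGfp
    (S3590.rankOne_of_isInvertible (FieldAmple.isInvertible_of_iso e.symm hL))
  refine ⟨D.obj m.left, E.obj m, c.π.app m.left, LimDesc.toStage D fk m,
    (LimDesc.towerCone D fk c hk').π.app m, (Scheme.Modules.pullback (E.map ψ)).obj G, ?_, inferInstance,
    MorphismProperty.of_isPullback (P := @IsProper) (LimDesc.isPullback_stage D fk m) hk,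
    LimDesc.isPullback_proj D fk c hk' m, ZeroSch.isInvertible_of_rankOne hm, ⟨?_⟩⟩
  · haveI := hnoeth m.left
    exact { }
  · exact (ModDesc.trIso _ (E.map ψ) ((LimDesc.towerCone D fk c hk').w ψ)).app G ≪≫ e

/-- ampleness on a fibre descends along an extension of the residue field -/
theorem isAmple_fiber_of_field {X Y : Scheme.{u}} (f : X ⟶ Y) [QuasiCompact f] {L : X.Modules}
    (hL : PicF.IsInvertible L) (K : Type u) [Field K] (h : Spec (CommRingCat.of K) ⟶ Y) {y : Y}
    (hy : h (IsLocalRing.closedPoint K) = y) {T : Scheme.{u}} (a : T ⟶ X) (b : T ⟶ Spec (CommRingCat.of K))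
    (sq : IsPullback a b f h) (hamp : CohB1.IsAmple ((Scheme.Modules.pullback a).obj L)) :
    CohB1.IsAmple ((Scheme.Modules.pullback (f.fiberι y)).obj L) := by
  obtain ⟨⟨z, φ⟩, rfl⟩ := (Scheme.SpecToEquivOfField K Y).symm.surjective h
  have hz : z = y := by
    rw [← hy]
    exact (Scheme.fromSpecResidueField_apply z _).symm
  subst hz
  have hw : a ≫ f = (b ≫ Spec.map φ) ≫ Y.fromSpecResidueField z := by rw [Category.assoc]; exact sq.w
  let l : T ⟶ f.fiber z := pullback.lift a (b ≫ Spec.map φ) hw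
  have hl : IsPullback l b (f.fiberToSpecResidueField z) (Spec.map φ) :=
    IsPullback.of_right (by simpa [l, Scheme.Hom.fiberι] using sq) (pullback.lift_snd _ _ _)
      (IsPullback.of_hasPullback f (Y.fromSpecResidueField z))
  haveI : Flat (Spec.map φ) := (HasRingHomProperty.Spec_iff (P := @Flat)).2 (by
    letI : Algebra (Y.residueField z) K := φ.hom.toAlgebra
    exact RingHom.flat_algebraMap_iff.2 inferInstance)
  haveI : Surjective (Spec.map φ) := by
    refine ⟨fun p => ⟨IsLocalRing.closedPoint K, ?_⟩⟩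
    exact Subsingleton.elim (α := PrimeSpectrum (Y.residueField z)) _ _
  refine AmpleDesc.isAmple_of_pullback hl (PicLoc.isInvertible_pullback _ hL) ?_
  exact TMul.isAmple_congr ((ModDesc.trIso l (f.fiberι z) (pullback.lift_fst _ _ _)).app L).symm hamp

/-- **Ample on a fibre of a proper morphism of finite presentation ⇒ relatively ample nearby.** -/
theorem exists_nhd_fp {A : Type u} [CommRing A] {X : Scheme.{u}} (f : X ⟶ Spec (CommRingCat.of A))
    [IsProper f] [LocallyOfFinitePresentation f] {L : X.Modules} (hL : PicF.IsInvertible L)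
    (y : Spec (CommRingCat.of A)) (hy : CohB1.IsAmple ((Scheme.Modules.pullback (f.fiberι y)).obj L)) :
    ∃ V : (Spec (CommRingCat.of A)).Opens, y ∈ V ∧ RelAmple.IsRelAmple (f ∣_ V) (L.restrict (f ⁻¹ᵁ V).ι) := by
  obtain ⟨S₀, X₀, σ, f₀, q, L₀, hS₀, -, hf₀, sq, hL₀, ⟨e⟩⟩ := exists_noetherian_model f L hL
  haveI := hS₀; haveI := hf₀
  have hy₀ : CohB1.IsAmple ((Scheme.Modules.pullback (f₀.fiberι (σ y))).obj L₀) := by
    refine isAmple_fiber_of_field f₀ hL₀ ((Spec (CommRingCat.of A)).residueField y)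
      ((Spec (CommRingCat.of A)).fromSpecResidueField y ≫ σ) ?_ (f.fiberι y ≫ q) (f.fiberToSpecResidueField y)
      ((IsPullback.of_hasPullback f _).paste_horiz sq) ?_
    · rw [Scheme.Hom.comp_apply]
      exact congrArg σ (Scheme.fromSpecResidueField_apply y _)
    · exact TMul.isAmple_congr ((Scheme.Modules.pullback (f.fiberι y)).mapIso e.symm ≪≫
        (ModDesc.trIso (f.fiberι y) q rfl).app L₀) hy
  obtain ⟨V₀, hyV₀, hV₀⟩ := AmpleNear.exists_nhd f₀ hL₀ (σ y) hy₀
  obtain ⟨W, hW, hyW, hWV⟩ := exists_isAffineOpen_mem_and_subset (U := V₀) hyV₀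
  have hamp : RelAmple.IsRelAmple (f₀ ∣_ W) (L₀.restrict (f₀ ⁻¹ᵁ W).ι) := by
    haveI : IsAffine W.toScheme := hW
    haveI : QuasiCompact (f₀ ∣_ W) := inferInstance
    exact (TMul.isRelAmple_iff_isAmple (f := f₀ ∣_ W)).2 (hV₀ W hWV hW)
  let V := σ ⁻¹ᵁ W
  refine ⟨V, hyW, ?_⟩
  have h1 : IsPullback ((f ⁻¹ᵁ V).ι ≫ q) (f ∣_ V) f₀ (V.ι ≫ σ) :=
    (isPullback_morphismRestrict f V).flip.paste_horiz sq
  have h2 : V.ι ≫ σ = (σ ∣_ W) ≫ W.ι := (morphismRestrict_ι σ W).symm
  rw [h2] at h1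
  let lX := (isPullback_morphismRestrict f₀ W).flip.lift ((f ⁻¹ᵁ V).ι ≫ q) ((f ∣_ V) ≫ σ ∣_ W)
    (by rw [Category.assoc]; exact h1.w)
  have h3 : IsPullback lX (f ∣_ V) (f₀ ∣_ W) (σ ∣_ W) :=
    IsPullback.of_right (by rw [IsPullback.lift_fst]; exact h1) (IsPullback.lift_snd _ _ _ _)
      (isPullback_morphismRestrict f₀ W).flip
  refine TMul.isRelAmple_congr ?_ (AmpleStage.isRelAmple_of_isPullback h3 hamp)
  exact (Scheme.Modules.pullback lX).mapIso ((Scheme.Modules.restrictFunctorIsoPullback (f₀ ⁻¹ᵁ W).ι).app L₀) ≪≫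
    (ModDesc.trIso lX (f₀ ⁻¹ᵁ W).ι (IsPullback.lift_fst _ _ _ _)).app L₀ ≪≫
    ((ModDesc.trIso (f ⁻¹ᵁ V).ι q rfl).app L₀).symm ≪≫
    (Scheme.Modules.pullback (f ⁻¹ᵁ V).ι).mapIso e ≪≫
    ((Scheme.Modules.restrictFunctorIsoPullback (f ⁻¹ᵁ V).ι).app L).symm

/-- ampleness on a fibre passes to the fibre of a base change -/
theorem isAmple_fiber_bc {X Y X' Y' : Scheme.{u}} {f : X ⟶ Y} {h : Y' ⟶ Y} {p : X' ⟶ X} {f' : X' ⟶ Y'}
    (sq : IsPullback p f' f h) {L : X.Modules} (hL : PicF.IsInvertible L) (z : Y')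
    (hy : CohB1.IsAmple ((Scheme.Modules.pullback (f.fiberι (h z))).obj L)) :
    CohB1.IsAmple ((Scheme.Modules.pullback (f'.fiberι z)).obj ((Scheme.Modules.pullback p).obj L)) :=
  TMul.isAmple_congr ((ModDesc.trIso (f'.fiberι z) p rfl).app L).symm
    (AmpleNear.isAmple_of_fiber f hL hy (Y'.residueField z) (Y'.fromSpecResidueField z ≫ h)
      (by rw [Scheme.Hom.comp_apply]; exact congrArg h (Scheme.fromSpecResidueField_apply z _))
      _ (f'.fiberToSpecResidueField z) ((IsPullback.of_hasPullback f' _).paste_horiz sq))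

/-- the same over any base, with the neighbourhood affine -/
theorem exists_nhd_fp' {X Y : Scheme.{u}} (f : X ⟶ Y) [IsProper f] [LocallyOfFinitePresentation f]
    {L : X.Modules} (hL : PicF.IsInvertible L) (y : Y)
    (hy : CohB1.IsAmple ((Scheme.Modules.pullback (f.fiberι y)).obj L)) :
    ∃ O : Y.Opens, IsAffineOpen O ∧ y ∈ O ∧ CohB1.IsAmple (L.restrict (f ⁻¹ᵁ O).ι) := by
  obtain ⟨W, hW, hyW, -⟩ := exists_isAffineOpen_mem_and_subset (X := Y) (x := y) (U := ⊤) trivial
  let p := pullback.fst f hW.fromSpec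
  let f' := pullback.snd f hW.fromSpec
  haveI : IsProper f' := MorphismProperty.pullback_snd _ _ ‹_›
  haveI : LocallyOfFinitePresentation f' := MorphismProperty.pullback_snd _ _ ‹_›
  let z := hW.primeIdealOf ⟨y, hyW⟩
  have hz : hW.fromSpec z = y := hW.fromSpec_primeIdealOf ⟨y, hyW⟩
  have hfib : CohB1.IsAmple ((Scheme.Modules.pullback (f'.fiberι z)).obj ((Scheme.Modules.pullback p).obj L)) :=
    isAmple_fiber_bc (IsPullback.of_hasPullback f hW.fromSpec) hL z (by rw [hz]; exact hy)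
  obtain ⟨V, hzV, hV⟩ := exists_nhd_fp f' (PicLoc.isInvertible_pullback p hL) z hfib
  let j : V.toScheme ⟶ Y := V.ι ≫ hW.fromSpec
  obtain ⟨O, hO, hyO, hOj⟩ := exists_isAffineOpen_mem_and_subset (X := Y) (x := y) (U := j.opensRange)
    ⟨⟨z, hzV⟩, hz⟩
  refine ⟨O, hO, hyO, ?_⟩
  let lY : O.toScheme ⟶ V.toScheme := IsOpenImmersion.lift j O.ι (by
    rw [Scheme.Opens.range_ι]; exact hOj)
  have h1 := transfer_relAmple (f := f) ((isPullback_morphismRestrict f' V).flip.paste_horiz (IsPullback.of_hasPullback f _))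
    (isPullback_morphismRestrict f O).flip lY (IsOpenImmersion.lift_fac _ _ _) (L := L)
    (TMul.isRelAmple_congr ((Scheme.Modules.restrictFunctorIsoPullback (f' ⁻¹ᵁ V).ι).app _ ≪≫
      (ModDesc.trIso (f' ⁻¹ᵁ V).ι p rfl).app L) hV)
  haveI : IsAffine O.toScheme := hO
  exact TMul.isAmple_congr ((Scheme.Modules.restrictFunctorIsoPullback (f ⁻¹ᵁ O).ι).app L).symm
    ((TMul.isRelAmple_iff_isAmple (f := f ∣_ O)).1 h1)

/-- ampleness on all fibres is relative ampleness -/
theorem isRelAmple_iff_forall_fibre {X S : Scheme.{u}} (f : X ⟶ S) [IsProper f] [LocallyOfFinitePresentation f]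
    (L : X.Modules) (hL : PicF.IsInvertible L) :
    RelAmple.IsRelAmple f L ↔ ∀ s : S, CohB1.IsAmple ((Scheme.Modules.pullback (f.fiberι s)).obj L) := by
  refine ⟨fun h s => ?_, fun h => TMul.isRelAmple_of_exists hL fun y => ?_⟩
  · exact (TMul.isRelAmple_iff_isAmple (f := f.fiberToSpecResidueField s)).1
      (AmpleStage.isRelAmple_of_isPullback (IsPullback.of_hasPullback f _) h)
  · obtain ⟨O, -, hyO, hO⟩ := exists_nhd_fp' f hL y (h y)
    exact ⟨O, hyO, hO⟩

end Groth.Agent.IndSpread
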