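import Groth.Agent.IndSpread.AmpleModel
import Groth.Agent.S12442
import Groth.Agent.ConsEngine.SetProp

/-!
Constructibility of the relative ampleness locus of a proper morphism of finite presentation.
-/

set_option autoImplicit false
set_option linter.style.haveILetI false
set_option linter.unusedSectionVars false
set_option backward.isDefEq.respectTransparency false
universe u
open CategoryTheory CategoryTheory.Limits AlgebraicGeometry TopologicalSpace

namespace Groth.Agent.IndSpread

variable {X Y S : Scheme.{u}} (f : X ⟶ Y)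

/-- the locus of ample fibres -/
def ampleSet (L : X.Modules) : Set Y := {y | CohB1.IsAmple ((Scheme.Modules.pullback (f.fiberι y)).obj L)}

theorem isOpen_ampleSet [IsProper f] [LocallyOfFinitePresentation f] {L : X.Modules} (hL : PicF.IsInvertible L) :
    IsOpen (ampleSet f L) := by
  refine isOpen_iff_forall_mem_open.2 fun y hy => ?_
  obtain ⟨O, hO, hyO, hamp⟩ := exists_nhd_fp' f hL y hy
  refine ⟨O, fun y' hy' => ?_, O.2, hyO⟩
  haveI : IsAffine O.toScheme := hO
  have h1 : RelAmple.IsRelAmple (f ∣_ O) ((Scheme.Modules.pullback (f ⁻¹ᵁ O).ι).obj L) :=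
    (TMul.isRelAmple_iff_isAmple (f := f ∣_ O)).2
      (TMul.isAmple_congr ((Scheme.Modules.restrictFunctorIsoPullback (f ⁻¹ᵁ O).ι).app L) hamp)
  have h2 : Set.range (Y.fromSpecResidueField y') ⊆ Set.range O.ι := by
    rw [Scheme.range_fromSpecResidueField, Scheme.Opens.range_ι]
    exact Set.singleton_subset_iff.2 hy'
  exact (TMul.isRelAmple_iff_isAmple (f := f.fiberToSpecResidueField y')).1
    (transfer_relAmple (f := f) (isPullback_morphismRestrict f O).flip (IsPullback.of_hasPullback f _)
      (IsOpenImmersion.lift O.ι _ h2) (IsOpenImmersion.lift_fac _ _ _) h1)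

theorem ampleSet_bc {X' Y' : Scheme.{u}} {p : X' ⟶ X} {f' : X' ⟶ Y'} {h : Y' ⟶ Y} [QuasiCompact f]
    (sq : IsPullback p f' f h) {L : X.Modules} (hL : PicF.IsInvertible L) :
    ampleSet f' ((Scheme.Modules.pullback p).obj L) = h ⁻¹' ampleSet f L := by
  ext z
  refine ⟨fun hz => ?_, fun hz => isAmple_fiber_bc sq hL z hz⟩
  refine isAmple_fiber_of_field f hL (Y'.residueField z) (Y'.fromSpecResidueField z ≫ h) ?_ (f'.fiberι z ≫ p)
    (f'.fiberToSpecResidueField z) ((IsPullback.of_hasPullback f' _).paste_horiz sq) ?_
  · rw [Scheme.Hom.comp_apply]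
    exact congrArg h (Scheme.fromSpecResidueField_apply z _)
  · exact TMul.isAmple_congr ((ModDesc.trIso (f'.fiberι z) p rfl).app L) hz

theorem isLocallyConstructible_ampleSet [IsProper f] [LocallyOfFinitePresentation f] {L : X.Modules}
    (hL : PicF.IsInvertible L) : Topology.IsLocallyConstructible (ampleSet f L) := by
  refine .of_isOpenCover Y.affineCover.isOpenCover_opensRange fun i => ?_
  let j := Y.affineCover.f i
  let f' := pullback.snd f j
  haveI : IsProper f' := MorphismProperty.pullback_snd _ _ ‹_›
  haveI : LocallyOfFinitePresentation f' := MorphismProperty.pullback_snd _ _ ‹_›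
  obtain ⟨A, ⟨eA⟩⟩ : ∃ A : CommRingCat.{u}, Nonempty (Spec A ≅ Y.affineCover.X i) :=
    ⟨Γ(Y.affineCover.X i, ⊤), ⟨(Scheme.isoSpec _).symm⟩⟩
  let k : Spec A ⟶ Y := eA.hom ≫ j
  let g := pullback.snd f k
  haveI : IsProper g := MorphismProperty.pullback_snd _ _ ‹_›
  haveI : LocallyOfFinitePresentation g := MorphismProperty.pullback_snd _ _ ‹_›
  have hgL := PicLoc.isInvertible_pullback (pullback.fst f k) hL
  obtain ⟨S₀, X₀, σ, f₀, q, L₀, hS₀, -, hf₀, sq, hL₀, ⟨e⟩⟩ := exists_noetherian_model (A := A) g _ hgL
  haveI := hS₀; haveI := hf₀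
  have hA : Topology.IsConstructible (ampleSet g ((Scheme.Modules.pullback (pullback.fst f k)).obj L)) := by
    have h1 : ampleSet g ((Scheme.Modules.pullback (pullback.fst f k)).obj L) =
        ampleSet g ((Scheme.Modules.pullback q).obj L₀) := by
      ext z
      exact ⟨TMul.isAmple_congr ((Scheme.Modules.pullback _).mapIso e.symm),
        TMul.isAmple_congr ((Scheme.Modules.pullback _).mapIso e)⟩
    rw [h1, ampleSet_bc f₀ sq hL₀]
    refine Scheme.Hom.isConstructible_preimage σ ?_
    haveI : LocallyOfFinitePresentation f₀ := ConsEngine.lfp_of_lft f₀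
    exact (TopologicalSpace.NoetherianSpace.isCompact _).isConstructible (isOpen_ampleSet f₀ hL₀)
  rw [ampleSet_bc f (IsPullback.of_hasPullback f k) hL] at hA
  have hr : Set.range k = (j.opensRange : Set Y) := by
    rw [show k = eA.hom ≫ j from rfl, Scheme.Hom.comp_base, TopCat.coe_comp, Set.range_comp,
      Set.range_eq_univ.2 fun x => ⟨eA.inv x, by rw [← Scheme.Hom.comp_apply, eA.inv_hom_id]; rfl⟩, Set.image_univ]
    rfl
  let φ : Spec A ≃ₜ ↥(j.opensRange : Set Y) :=
    k.isOpenEmbedding.toIsEmbedding.toHomeomorph.trans (Homeomorph.setCongr hr)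
  have h2 := hA.isLocallyConstructible.preimage_of_isOpenEmbedding φ.symm.isOpenEmbedding
  convert h2 using 1
  ext z
  have : k (φ.symm z) = z.1 := congrArg Subtype.val (φ.apply_symm_apply z)
  show z.1 ∈ ampleSet f L ↔ k (φ.symm z) ∈ ampleSet f L
  rw [this]

/-- **Constructibility of the relatively ample locus.** -/
theorem isLocallyConstructible_relAmple (g : Y ⟶ S)
    [LocallyOfFinitePresentation g] [QuasiCompact g] [QuasiSeparated g]
    [LocallyOfFinitePresentation (f ≫ g)] [IsProper f]
    {L : X.Modules} (hL : PicF.IsInvertible L) :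
    Topology.IsLocallyConstructible {s : S |
      RelAmple.IsRelAmple
        (pullback.lift (pullback.fst (f ≫ g) (S.fromSpecResidueField s) ≫ f) (pullback.snd (f ≫ g) (S.fromSpecResidueField s))
          ((Category.assoc _ _ _).trans pullback.condition) :
          pullback (f ≫ g) (S.fromSpecResidueField s) ⟶ pullback g (S.fromSpecResidueField s))
        ((Scheme.Modules.pullback (pullback.fst (f ≫ g) (S.fromSpecResidueField s))).obj L)} := by
  haveI : LocallyOfFinitePresentation f := S12442.result f g
  have hc : ∀ {T : Type u} [TopologicalSpace T] (E : Set T), Topology.IsLocallyConstructible E →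
      Topology.IsLocallyConstructible Eᶜ := fun E hE x => by
    obtain ⟨U, hxU, hU, h⟩ := hE x
    exact ⟨U, hxU, hU, by rw [Set.preimage_compl]; exact h.compl⟩
  suffices h : {s : S |
      RelAmple.IsRelAmple
        (pullback.lift (pullback.fst (f ≫ g) (S.fromSpecResidueField s) ≫ f) (pullback.snd (f ≫ g) (S.fromSpecResidueField s))
          ((Category.assoc _ _ _).trans pullback.condition) :
          pullback (f ≫ g) (S.fromSpecResidueField s) ⟶ pullback g (S.fromSpecResidueField s))
        ((Scheme.Modules.pullback (pullback.fst (f ≫ g) (S.fromSpecResidueField s))).obj L)} =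
      (g '' (ampleSet f L)ᶜ)ᶜ by
    rw [h]
    exact hc _ (Scheme.Hom.isLocallyConstructible_image g (hc _ (isLocallyConstructible_ampleSet f hL)))
  ext s
  have sq := isPullback_lift f g (S.fromSpecResidueField s)
  haveI := MorphismProperty.of_isPullback (P := @IsProper) sq ‹_›
  haveI := MorphismProperty.of_isPullback (P := @LocallyOfFinitePresentation) sq ‹_›
  rw [Set.mem_ofPred_eq, isRelAmple_iff_forall_fibre _ _ (PicLoc.isInvertible_pullback _ hL)]
  simp only [Set.mem_compl_iff, Set.mem_image, not_exists, not_and']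
  constructor
  · intro h y hy hn
    obtain ⟨z, hz⟩ : y ∈ Set.range (pullback.fst g (S.fromSpecResidueField s)) := by
      rw [show Set.range (pullback.fst g (S.fromSpecResidueField s)) = g ⁻¹' {s} from g.range_fiberι s]
      exact hy
    refine hn ?_
    have := h z
    rw [show ((Scheme.Modules.pullback _).obj _ |> CohB1.IsAmple) ↔ z ∈ ampleSet _ _ from Iff.rfl,
      ampleSet_bc f sq hL] at this
    exact hz ▸ this
  · intro h z
    have hy : pullback.fst g (S.fromSpecResidueField s) z ∈ ampleSet f L := by
      by_contra hn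
      refine h _ ?_ hn
      have : pullback.fst g (S.fromSpecResidueField s) z ∈ Set.range (g.fiberι s) := ⟨z, rfl⟩
      rwa [g.range_fiberι s] at this
    exact isAmple_fiber_bc sq hL z hy

end Groth.Agent.IndSpread
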