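import Groth.Agent.IndSpread.AmpleModel
import Groth.Agent.S2079

/-!
Ampleness on a fibre spreads for any proper morphism.
-/

set_option autoImplicit false
set_option linter.style.haveILetI false
set_option linter.unusedSectionVars false
set_option backward.isDefEq.respectTransparency false
universe u
open CategoryTheory CategoryTheory.Limits AlgebraicGeometry TopologicalSpace Groth.Agent.LimDesc

noncomputable section

namespace Groth.Agent.IndSpread

theorem exists_nhd_proper {X S : Scheme.{u}} (f : X ⟶ S) [IsProper f] [IsAffine S]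
    {L : X.Modules} (hL : PicF.IsInvertible L) (y : S)
    (hy : CohB1.IsAmple ((Scheme.Modules.pullback (f.fiberι y)).obj L)) :
    ∃ O : S.Opens, IsAffineOpen O ∧ y ∈ O ∧ CohB1.IsAmple (L.restrict (f ⁻¹ᵁ O).ι) := by
  obtain ⟨I, _, _, D, c, hc, e, hcl, hfp⟩ := S2079.result f
  haveI : IsConnected I := IsCofiltered.isConnected I
  let DX : I ⥤ Scheme.{u} := D ⋙ Over.forget S
  haveI hDX : ∀ {i j} (a : i ⟶ j), IsAffineHom (DX.map a) := fun {i j} a => by
    haveI := hcl i j a
    exact inferInstanceAs (IsAffineHom (D.map a).left)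
  let cX : Cone DX :=
    { pt := X
      π := { app := fun i => e.inv.left ≫ (c.π.app i).left
             naturality := fun i j a => by
               simp only [Functor.const_obj_map, Category.id_comp, Category.assoc]
               exact congrArg (e.inv.left ≫ ·) (congrArg CommaMorphism.left (c.w a)).symm } }
  have hcX : IsLimit cX := IsLimit.ofIsoLimit (isLimitOfPreserves (Over.forget S) hc)
    (Cone.ext ((Over.forget S).mapIso e) fun i => by
      simp only [cX, Functor.mapCone_π_app, Functor.mapIso_hom, Over.forget_map, ← Over.comp_left_assoc,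
        Iso.hom_inv_id]
      exact (Category.id_comp _).symm)
  haveI hDc : ∀ i, CompactSpace (DX.obj i) := fun i => by
    haveI := (hfp i).2.1
    exact QuasiCompact.compactSpace_of_compactSpace (D.obj i).hom
  haveI hDq : ∀ i, QuasiSeparatedSpace (DX.obj i) := fun i => by
    haveI := (hfp i).2.1
    exact quasiSeparatedSpace_of_quasiSeparated (D.obj i).hom
  have hπ : ∀ i, cX.π.app i ≫ (D.obj i).hom = f := fun i => by
    show (e.inv.left ≫ (c.π.app i).left) ≫ (D.obj i).hom = f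
    rw [Category.assoc, Over.w]
    exact Over.w e.inv
  haveI : Coh.IsQCoh L := TMul.isQCoh_of_isInvertible hL
  have hLfp : CohB1.IsFP L := LocFree.isFP_of_isFinLocFree (FieldAmple.isFinLocFree_of_isInvertible hL)
  obtain ⟨i, -, G, hG, hGfp, ⟨eG⟩⟩ := ModDesc.exists_descend (i₀ := Classical.arbitrary I) hcX hLfp
  haveI := hG
  obtain ⟨i₀, ψ, hm⟩ := ModDesc.exists_isFinLocFreeOfRank_stage DX cX hcX hGfp
    (S3590.rankOne_of_isInvertible (FieldAmple.isInvertible_of_iso eG.symm hL))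
  let G₀ := (Scheme.Modules.pullback (DX.map ψ)).obj G
  have hG₀ : PicF.IsInvertible G₀ := ZeroSch.isInvertible_of_rankOne hm
  let eG₀ : (Scheme.Modules.pullback (cX.π.app i₀)).obj G₀ ≅ L :=
    (ModDesc.trIso _ (DX.map ψ) (cX.w ψ)).app G ≪≫ eG
  -- the fibres form a tower
  let f₀ := (D.obj i₀).hom
  haveI : IsProper f₀ := (hfp i₀).2.1
  let g₀ := f₀.fiberι y
  let qY : f.fiber y ⟶ f₀.fiber y := pullback.lift (f.fiberι y ≫ cX.π.app i₀) (f.fiberToSpecResidueField y)
    (by rw [Category.assoc, hπ]; exact pullback.condition)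
  have hY : IsPullback qY (f.fiberι y) g₀ (cX.π.app i₀) :=
    (IsPullback.of_bot (h₁₁ := f.fiberι y) (v₁₁ := qY) (v₁₂ := cX.π.app i₀) (v₂₁ := f₀.fiberToSpecResidueField y)
      (by rw [show qY ≫ f₀.fiberToSpecResidueField y = f.fiberToSpecResidueField y from pullback.lift_snd _ _ _,
          show cX.π.app i₀ ≫ f₀ = f from hπ i₀]; exact IsPullback.of_hasPullback f _) (pullback.lift_fst _ _ _).symm
      (IsPullback.of_hasPullback f₀ (S.fromSpecResidueField y))).flip
  haveI : IsProper (f₀.fiberToSpecResidueField y) := MorphismProperty.pullback_snd _ _ ‹IsProper f₀›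
  haveI : CompactSpace (f₀.fiber y) := QuasiCompact.compactSpace_of_compactSpace (f₀.fiberToSpecResidueField y)
  haveI : QuasiSeparatedSpace (f₀.fiber y) := quasiSeparatedSpace_of_quasiSeparated (f₀.fiberToSpecResidueField y)
  haveI : ∀ j, CompactSpace ((tower DX g₀).obj j) := compactSpace_stage DX g₀
  haveI : ∀ j, QuasiSeparatedSpace ((tower DX g₀).obj j) := quasiSeparatedSpace_stage DX g₀
  obtain ⟨j, φ, hj⟩ := AbsApprox.exists_isAmple_stage (tower DX g₀) (towerCone DX g₀ cX hY)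
    (isLimitTowerCone DX g₀ cX hY hcX) (i₀ := Over.mk (𝟙 i₀))
    (PicLoc.isInvertible_pullback (toStage DX g₀ (Over.mk (𝟙 i₀))) (PicLoc.isInvertible_pullback (DX.map (𝟙 i₀)) hG₀))
    (TMul.isAmple_congr ((Scheme.Modules.pullback (f.fiberι y)).mapIso eG₀.symm ≪≫
      (ModDesc.trIso (f.fiberι y) (cX.π.app i₀) rfl).app G₀ ≪≫
      ((ModDesc.trIso ((towerCone DX g₀ cX hY).π.app (Over.mk (𝟙 i₀)))
          (toStage DX g₀ (Over.mk (𝟙 i₀)) ≫ DX.map (𝟙 i₀)) (by simp)).app G₀).symm ≪≫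
      (Scheme.Modules.pullback _).mapIso ((ModDesc.trIso (toStage DX g₀ (Over.mk (𝟙 i₀))) (DX.map (𝟙 i₀)) rfl).app G₀).symm) hy)
  let h := (D.obj j.left).hom
  haveI : IsProper h := (hfp j.left).2.1
  haveI : LocallyOfFinitePresentation h := (hfp j.left).2.2
  let Gj := (Scheme.Modules.pullback (DX.map j.hom)).obj G₀
  have hfib : IsPullback (toStage DX g₀ j) (toBase DX g₀ j ≫ f₀.fiberToSpecResidueField y) h
      (S.fromSpecResidueField y) := by
    have := (isPullback_stage DX g₀ j).flip.paste_vert (IsPullback.of_hasPullback f₀ (S.fromSpecResidueField y))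
    rwa [show DX.map j.hom ≫ f₀ = h from Over.w (D.map j.hom)] at this
  have hyj : CohB1.IsAmple ((Scheme.Modules.pullback (h.fiberι y)).obj Gj) := by
    haveI : IsIso hfib.isoPullback.inv := inferInstance
    refine TMul.isAmple_congr ?_ (TMul.isAmple_pullback_of_isAffineHom hfib.isoPullback.inv hj)
    exact (Scheme.Modules.pullback hfib.isoPullback.inv).mapIso
        ((Scheme.Modules.pullback _).mapIso ((ModDesc.trIso _ _ rfl).app G₀) ≪≫ (ModDesc.trIso _ _ rfl).app G₀) ≪≫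
      (ModDesc.trIso hfib.isoPullback.inv _ rfl).app G₀ ≪≫
      ((ModDesc.trIso (h.fiberι y) (DX.map j.hom) (by
        rw [tower_map, trans_toStage_assoc, ← DX.map_comp,
          show φ.left ≫ 𝟙 i₀ = j.hom from Over.w φ]
        exact ((congrArg (· ≫ DX.map j.hom) hfib.isoPullback_inv_fst).symm.trans (Category.assoc _ _ _)))).app G₀).symm
  obtain ⟨O, hO, hyO, hamp⟩ := exists_nhd_fp' h (PicLoc.isInvertible_pullback _ hG₀) y hyj
  refine ⟨O, hO, hyO, ?_⟩
  haveI : IsClosedImmersion (cX.π.app j.left) := by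
    haveI := (hfp j.left).1
    exact inferInstanceAs (IsClosedImmersion (e.inv.left ≫ (c.π.app j.left).left))
  have hle : f ⁻¹ᵁ O = cX.π.app j.left ⁻¹ᵁ (h ⁻¹ᵁ O) := by rw [← Scheme.Hom.comp_preimage, hπ]
  rw [hle]
  haveI : IsAffineHom (cX.π.app j.left ∣_ (h ⁻¹ᵁ O)) := inferInstance
  refine TMul.isAmple_congr ?_ (TMul.isAmple_pullback_of_isAffineHom (cX.π.app j.left ∣_ (h ⁻¹ᵁ O)) hamp)
  exact (Scheme.Modules.pullback _).mapIso
      ((Scheme.Modules.restrictFunctorIsoPullback (h ⁻¹ᵁ O).ι).app Gj) ≪≫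
    (ModDesc.trIso _ (h ⁻¹ᵁ O).ι (morphismRestrict_ι _ _)).app Gj ≪≫
    ((ModDesc.trIso (cX.π.app j.left ⁻¹ᵁ (h ⁻¹ᵁ O)).ι (cX.π.app j.left) rfl).app Gj).symm ≪≫
    (Scheme.Modules.pullback (cX.π.app j.left ⁻¹ᵁ (h ⁻¹ᵁ O)).ι).mapIso
      ((ModDesc.trIso _ (DX.map j.hom) (cX.w j.hom)).app G₀ ≪≫ eG₀) ≪≫
    ((Scheme.Modules.restrictFunctorIsoPullback _).app L).symm

/-- over an arbitrary base -/
theorem exists_nhd_relAmple {X Y : Scheme.{u}} (f : X ⟶ Y) [IsProper f] {L : X.Modules} (hL : PicF.IsInvertible L)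
    (y : Y) (hy : CohB1.IsAmple ((Scheme.Modules.pullback (f.fiberι y)).obj L)) :
    ∃ V : Y.Opens, y ∈ V ∧ RelAmple.IsRelAmple (f ∣_ V) (L.restrict (f ⁻¹ᵁ V).ι) := by
  obtain ⟨W, hW, hyW, -⟩ := exists_isAffineOpen_mem_and_subset (X := Y) (x := y) (U := ⊤) trivial
  let p := pullback.fst f hW.fromSpec
  let f' := pullback.snd f hW.fromSpec
  haveI : IsProper f' := MorphismProperty.pullback_snd _ _ ‹_›
  let z := hW.primeIdealOf ⟨y, hyW⟩
  have hz : hW.fromSpec z = y := hW.fromSpec_primeIdealOf ⟨y, hyW⟩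
  obtain ⟨V, hV, hzV, hamp⟩ := exists_nhd_proper f' (PicLoc.isInvertible_pullback p hL) z
    (isAmple_fiber_bc (IsPullback.of_hasPullback f hW.fromSpec) hL z (by rw [hz]; exact hy))
  let j : V.toScheme ⟶ Y := V.ι ≫ hW.fromSpec
  obtain ⟨O, hO, hyO, hOj⟩ := exists_isAffineOpen_mem_and_subset (X := Y) (x := y) (U := j.opensRange)
    ⟨⟨z, hzV⟩, hz⟩
  refine ⟨O, hyO, ?_⟩
  haveI : IsAffine V.toScheme := hV
  haveI : IsAffine O.toScheme := hO
  have hamp' : RelAmple.IsRelAmple (f' ∣_ V) (((Scheme.Modules.pullback p).obj L).restrict (f' ⁻¹ᵁ V).ι) :=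
    (TMul.isRelAmple_iff_isAmple (f := f' ∣_ V)).2 hamp
  let lY : O.toScheme ⟶ V.toScheme := IsOpenImmersion.lift j O.ι (by
    rw [Scheme.Opens.range_ι]; exact hOj)
  have h1 := transfer_relAmple (f := f) ((isPullback_morphismRestrict f' V).flip.paste_horiz (IsPullback.of_hasPullback f _))
    (isPullback_morphismRestrict f O).flip lY (IsOpenImmersion.lift_fac _ _ _) (L := L)
    (TMul.isRelAmple_congr ((Scheme.Modules.restrictFunctorIsoPullback (f' ⁻¹ᵁ V).ι).app _ ≪≫
      (ModDesc.trIso (f' ⁻¹ᵁ V).ι p rfl).app L) hamp')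
  exact TMul.isRelAmple_congr ((Scheme.Modules.restrictFunctorIsoPullback (f ⁻¹ᵁ O).ι).app L).symm h1

end Groth.Agent.IndSpread
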