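import Mathlib
import Groth.Agent.ConsEngine.IndCons

/-!
Ind-constructibility of the set of points where a property, continuous for limits of affine schemes, holds
over the residue field: residue fields are colimits of rings of locally closed constructible neighbourhoods.
-/

set_option autoImplicit false
set_option linter.style.haveILetI false
set_option linter.unusedSectionVars false
set_option linter.unusedVariables false
set_option backward.isDefEq.respectTransparency false
set_option backward.isDefEq.respectTransparency.types false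
universe u
open CategoryTheory CategoryTheory.Limits AlgebraicGeometry TopologicalSpace

noncomputable section

namespace Groth.Agent.IndSpread

variable {R : Type u} [CommRing R] (p : Ideal R) [p.IsPrime]

/-- a constructible locally closed neighbourhood `V(J) ∩ D(a)` of `p` -/
structure Idx : Type u where
  J : Ideal R
  fg : J.FG
  le : J ≤ p
  a : R
  notMem : a ∉ p

variable {p}

instance : Preorder (Idx p) where
  le i j := i.J ≤ j.J ∧ i.a ∣ j.a
  le_refl i := ⟨le_rfl, dvd_rfl⟩
  le_trans i j k h h' := ⟨h.1.trans h'.1, h.2.trans h'.2⟩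

instance : Nonempty (Idx p) :=
  ⟨⟨⊥, Submodule.fg_bot, bot_le, 1, fun h => ‹p.IsPrime›.ne_top ((Ideal.eq_top_iff_one p).2 h)⟩⟩

instance : IsDirectedOrder (Idx p) :=
  ⟨fun i j => ⟨⟨i.J ⊔ j.J, Submodule.FG.sup i.fg j.fg, sup_le i.le j.le, i.a * j.a,
      fun h => (‹p.IsPrime›.mem_or_mem h).elim i.notMem j.notMem⟩,
    ⟨le_sup_left, dvd_mul_right _ _⟩, ⟨le_sup_right, dvd_mul_left _ _⟩⟩⟩

/-- the ring of functions of `V(J) ∩ D(a)` -/
abbrev ring (i : Idx p) : Type u := Localization.Away (Ideal.Quotient.mk i.J i.a)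

/-- the canonical map -/
def cst (i : Idx p) : R →+* ring i :=
  (algebraMap (R ⧸ i.J) (ring i)).comp (Ideal.Quotient.mk i.J)

theorem isUnit_cst (i : Idx p) {b : R} (h : b ∣ i.a) : IsUnit (cst i b) :=
  isUnit_of_dvd_unit (map_dvd (cst i) h) (IsLocalization.Away.algebraMap_isUnit (Ideal.Quotient.mk i.J i.a))

theorem ringHom_ext {i : Idx p} {B : Type u} [CommRing B] {f g : ring i →+* B}
    (h : f.comp (cst i) = g.comp (cst i)) : f = g :=
  IsLocalization.ringHom_ext (Submonoid.powers (Ideal.Quotient.mk i.J i.a))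
    (Ideal.Quotient.ringHom_ext h)

theorem exists_rep (i : Idx p) (x : ring i) : ∃ (b : R) (n : ℕ), x * cst i i.a ^ n = cst i b := by
  obtain ⟨n, b, hb⟩ := IsLocalization.Away.surj (Ideal.Quotient.mk i.J i.a) x
  obtain ⟨b, rfl⟩ := Ideal.Quotient.mk_surjective b
  exact ⟨b, n, hb⟩

/-- transition maps -/
def trans {i j : Idx p} (h : i ≤ j) : ring i →+* ring j :=
  IsLocalization.Away.lift (Ideal.Quotient.mk i.J i.a)
    (g := Ideal.Quotient.lift i.J (cst j) fun x hx => by
      show algebraMap (R ⧸ j.J) (ring j) (Ideal.Quotient.mk j.J x) = 0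
      rw [Ideal.Quotient.eq_zero_iff_mem.2 (h.1 hx), map_zero])
    (isUnit_cst j h.2)

@[simp] theorem trans_cst {i j : Idx p} (h : i ≤ j) (x : R) : trans h (cst i x) = cst j x := by
  unfold trans
  exact (IsLocalization.Away.lift_eq _ _ _).trans (Ideal.Quotient.lift_mk _ _ _)

/-- to the residue field -/
def toK (i : Idx p) : ring i →+* p.ResidueField :=
  IsLocalization.Away.lift (Ideal.Quotient.mk i.J i.a)
    (g := Ideal.Quotient.lift i.J (algebraMap R p.ResidueField) fun x hx =>
      Ideal.algebraMap_residueField_eq_zero.2 (i.le hx))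
    (isUnit_iff_ne_zero.2 fun h => i.notMem (Ideal.algebraMap_residueField_eq_zero.1 h))

@[simp] theorem toK_cst (i : Idx p) (x : R) : toK i (cst i x) = algebraMap R p.ResidueField x := by
  unfold toK
  exact (IsLocalization.Away.lift_eq _ _ _).trans (Ideal.Quotient.lift_mk _ _ _)

variable (p) in
/-- the system -/
def functor : Idx p ⥤ CommRingCat.{u} where
  obj i := CommRingCat.of (ring i)
  map h := CommRingCat.ofHom (trans (leOfHom h))
  map_id i := CommRingCat.hom_ext (ringHom_ext (by ext x; simp))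
  map_comp {i j k} h h' := CommRingCat.hom_ext (ringHom_ext (by ext x; simp))

variable (p) in
/-- its cocone -/
def cocone : Cocone (functor p) where
  pt := CommRingCat.of p.ResidueField
  ι :=
    { app := fun i => CommRingCat.ofHom (toK i)
      naturality := fun i j h => CommRingCat.hom_ext (ringHom_ext (by ext x; simp [functor])) }

variable (p) in
/-- the residue field is the colimit -/
def isColimit : IsColimit (cocone p) := by
  haveI : PreservesColimit (functor p) (forget CommRingCat.{u}) :=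
    (inferInstance : PreservesFilteredColimits (forget CommRingCat.{u})).preserves_filtered_colimits _ |>.preservesColimit
  haveI : ReflectsColimit (functor p) (forget CommRingCat.{u}) := reflectsColimit_of_reflectsIsomorphisms _ _
  refine isColimitOfReflects (forget CommRingCat.{u}) (Types.FilteredColimit.isColimitOf _ _ ?_ ?_)
  · intro x
    obtain ⟨a, s, hs, hx⟩ := IsFractionRing.div_surjective (A := R ⧸ p) (show p.ResidueField from x)
    obtain ⟨a, rfl⟩ := Ideal.Quotient.mk_surjective a
    obtain ⟨s, rfl⟩ := Ideal.Quotient.mk_surjective s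
    have hs' : s ∉ p := fun h => nonZeroDivisors.ne_zero hs (Ideal.Quotient.eq_zero_iff_mem.2 h)
    let i : Idx p := ⟨⊥, Submodule.fg_bot, bot_le, s, hs'⟩
    obtain ⟨v, hv⟩ := isUnit_cst i (dvd_refl s)
    refine ⟨i, cst i a * (↑v⁻¹ : ring i), ?_⟩
    change x = toK i _
    have h1 : toK i (↑v⁻¹ : ring i) * algebraMap R p.ResidueField s = 1 := by
      rw [← toK_cst i s, ← hv, ← map_mul, Units.inv_mul, map_one]
    rw [map_mul, toK_cst, ← hx, eq_inv_of_mul_eq_one_left h1, ← div_eq_mul_inv]
    rfl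
  · intro i j x y h
    obtain ⟨k, hik, hjk⟩ := exists_ge_ge i j
    change toK i x = toK j y at h
    obtain ⟨b, n, hb⟩ := exists_rep k (trans hik x - trans hjk y)
    have hfac : ∀ {i k : Idx p} (hik : i ≤ k), (toK k).comp (trans hik) = toK i := fun hik =>
      ringHom_ext (by ext z; simp)
    have hb0 : b ∈ p := by
      rw [← Ideal.algebraMap_residueField_eq_zero, ← toK_cst k, ← hb, map_mul, map_sub]
      have h1 := RingHom.congr_fun (hfac hik) x
      have h2 := RingHom.congr_fun (hfac hjk) y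
      simp only [RingHom.comp_apply] at h1 h2
      rw [h1, h2, h, sub_self, zero_mul]
    let l : Idx p := ⟨k.J ⊔ Ideal.span {b}, Submodule.FG.sup k.fg (Submodule.fg_span_singleton b),
      sup_le k.le ((Ideal.span_singleton_le_iff_mem _).2 hb0), k.a, k.notMem⟩
    have hkl : k ≤ l := ⟨le_sup_left, dvd_rfl⟩
    refine ⟨l, homOfLE (hik.trans hkl), homOfLE (hjk.trans hkl), ?_⟩
    change trans (hik.trans hkl) x = trans (hjk.trans hkl) y
    have hc : ∀ {i : Idx p} (hik : i ≤ k), (trans hkl).comp (trans hik) = trans (hik.trans hkl) := fun hik =>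
      ringHom_ext (by ext z; simp)
    rw [← RingHom.congr_fun (hc hik) x, ← RingHom.congr_fun (hc hjk) y, RingHom.comp_apply, RingHom.comp_apply,
      ← sub_eq_zero, ← map_sub]
    have h0 := congrArg (trans hkl) hb
    rw [map_mul, map_pow, trans_cst, trans_cst] at h0
    have hb1 : cst l b = 0 := by
      show algebraMap (R ⧸ l.J) (ring l) (Ideal.Quotient.mk l.J b) = 0
      rw [Ideal.Quotient.eq_zero_iff_mem.2 ((le_sup_right : Ideal.span {b} ≤ l.J) (Ideal.mem_span_singleton_self b)),
        map_zero]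
    rw [hb1] at h0
    exact ((isUnit_cst l (dvd_refl k.a)).pow n).mul_left_eq_zero.1 h0

variable (p) in
/-- the system of affine schemes -/
def diagram : (Idx p)ᵒᵖ ⥤ Scheme.{u} := (functor p).op ⋙ Scheme.Spec

variable (p) in
/-- its cone -/
def cone : Cone (diagram p) := Scheme.Spec.mapCone (cocone p).op

variable (p) in
/-- the cone is a limit -/
def isLimit : IsLimit (cone p) := isLimitOfPreserves Scheme.Spec (isColimit p).op

instance {i j : (Idx p)ᵒᵖ} (f : i ⟶ j) : IsAffineHom ((diagram p).map f) :=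
  inferInstanceAs (IsAffineHom (Spec.map _))

instance (i : (Idx p)ᵒᵖ) : IsAffine ((diagram p).obj i) := inferInstanceAs (IsAffine (Spec _))

theorem finitePresentation_cst (i : Idx p) : (cst i).FinitePresentation := by
  refine RingHom.FinitePresentation.comp ?_ ?_
  · exact RingHom.finitePresentation_algebraMap.2
      (IsLocalization.Away.finitePresentation (Ideal.Quotient.mk i.J i.a))
  · exact RingHom.finitePresentation_algebraMap.2 (Algebra.FinitePresentation.quotient i.fg)

/-- residue field maps of preimmersions are isomorphisms -/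
theorem isIso_residueFieldMap {T S : Scheme.{u}} (v : T ⟶ S) [IsPreimmersion v] (z : T) :
    IsIso (v.residueFieldMap z) := by
  refine (ConcreteCategory.isIso_iff_bijective _).2 ⟨RingHom.injective _, ?_⟩
  intro y
  obtain ⟨y, rfl⟩ := Ideal.Quotient.mk_surjective y
  obtain ⟨x, rfl⟩ := (v.stalkMap_surjective z) y
  exact ⟨IsLocalRing.residue _ x, rfl⟩

/-- **The criterion.** -/
theorem indCons {S : Scheme.{u}} (Q : ∀ {T : Scheme.{u}}, (T ⟶ S) → Prop)
    (hstable : ∀ {T' T : Scheme.{u}} (a : T' ⟶ T) (h : T ⟶ S), Q h → Q (a ≫ h))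
    (hstage : ∀ {I : Type u} [SmallCategory I] [IsCofiltered I] (D : I ⥤ Scheme.{u})
      [∀ {i j} (f : i ⟶ j), IsAffineHom (D.map f)] [∀ i, IsAffine (D.obj i)] (c : Cone D) (_ : IsLimit c) (i₀ : I)
      (h₀ : D.obj i₀ ⟶ S), Q (c.π.app i₀ ≫ h₀) → ∃ (j : I) (φ : j ⟶ i₀), Q (D.map φ ≫ h₀)) :
    ProCons.IsIndConstructible {s : S | Q (S.fromSpecResidueField s)} := by
  have transfer : ∀ {T : Scheme.{u}} (v : T ⟶ S) [IsPreimmersion v] (z : T),
      Q (T.fromSpecResidueField z ≫ v) ↔ Q (S.fromSpecResidueField (v z)) := by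
    intro T v _ z
    haveI := isIso_residueFieldMap v z
    rw [← Scheme.Hom.SpecMap_residueFieldMap_fromSpecResidueField]
    refine ⟨fun h => ?_, hstable _ _⟩
    have := hstable (inv (Spec.map (v.residueFieldMap z))) _ h
    rwa [IsIso.inv_hom_id_assoc] at this
  refine ConsEngine.indCons_of_affine _ fun W hW w => ⟨Set.univ, isOpen_univ, Set.mem_univ _,
    {T : Set ↥(Set.univ : Set W.toScheme) | Topology.IsLocallyConstructible T ∧
      T ⊆ Subtype.val ⁻¹' (W.ι ⁻¹' {s : S | Q (S.fromSpecResidueField s)})}, fun T hT => hT.1, ?_⟩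
  refine Set.Subset.antisymm ?_ (Set.sUnion_subset fun T hT => hT.2)
  rintro ⟨x, hxu⟩ hx
  let r := hW.primeIdealOf x
  let b : Spec Γ(S, W) ⟶ W.toScheme := hW.isoSpec.inv
  have hbx : b r = x := by
    rw [show r = hW.isoSpec.hom x from rfl, ← Scheme.Hom.comp_apply, Iso.hom_inv_id]
    rfl
  haveI : IsCofiltered (Idx r.asIdeal)ᵒᵖ := isCofiltered_op_of_isFiltered _
  let i₀ : (Idx r.asIdeal)ᵒᵖ := Opposite.op (Classical.arbitrary _)
  let g : ∀ i : (Idx r.asIdeal)ᵒᵖ, (diagram r.asIdeal).obj i ⟶ W.toScheme :=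
    fun i => Spec.map (CommRingCat.ofHom (cst i.unop)) ≫ b
  have hg : ∀ {i j : (Idx r.asIdeal)ᵒᵖ} (φ : i ⟶ j), (diagram r.asIdeal).map φ ≫ g j = g i := by
    intro i j φ
    show Spec.map _ ≫ Spec.map _ ≫ b = Spec.map _ ≫ b
    rw [← Spec.map_comp_assoc]
    congr 2
    ext z
    exact trans_cst (leOfHom φ.unop) z
  let k : Spec (CommRingCat.of r.asIdeal.ResidueField) ⟶ W.toScheme :=
    Spec.map (CommRingCat.ofHom (algebraMap Γ(S, W) r.asIdeal.ResidueField)) ≫ b
  have hk : ∀ i, (cone r.asIdeal).π.app i ≫ g i = k := by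
    intro i
    show Spec.map _ ≫ Spec.map _ ≫ b = Spec.map _ ≫ b
    rw [← Spec.map_comp_assoc]
    congr 2
    ext z
    exact toK_cst _ z
  -- the point
  let z₀ : Spec (CommRingCat.of r.asIdeal.ResidueField) := IsLocalRing.closedPoint r.asIdeal.ResidueField
  have hz₀ : k z₀ = x := by
    rw [← hbx]
    show b (Spec.map (CommRingCat.ofHom (algebraMap Γ(S, W) r.asIdeal.ResidueField)) z₀) = b r
    congr 1
    refine PrimeSpectrum.ext ?_
    show Ideal.comap (algebraMap Γ(S, W) r.asIdeal.ResidueField) z₀.asIdeal = r.asIdeal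
    rw [IsLocalRing.eq_maximalIdeal (z₀.asIdeal.isMaximal_of_isPrime)]
    simp [IsLocalRing.maximalIdeal_eq_bot, ← RingHom.ker_eq_comap_bot]
  have hQ : Q ((cone r.asIdeal).π.app i₀ ≫ g i₀ ≫ W.ι) := by
    rw [reassoc_of% hk]
    obtain ⟨⟨z, φ⟩, hφ⟩ := (Scheme.SpecToEquivOfField r.asIdeal.ResidueField S).symm.surjective (k ≫ W.ι)
    rw [← hφ]
    refine hstable _ _ ?_
    have h1 : (Spec.map φ ≫ S.fromSpecResidueField z) z₀ = z := by
      rw [Scheme.Hom.comp_apply]
      exact Scheme.fromSpecResidueField_apply z _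
    rw [show Spec.map φ ≫ S.fromSpecResidueField z = k ≫ W.ι from hφ, Scheme.Hom.comp_apply, hz₀] at h1
    show Q (S.fromSpecResidueField z)
    exact h1 ▸ (hx : Q (S.fromSpecResidueField (W.ι x)))
  obtain ⟨j, φ, hj⟩ := hstage (diagram r.asIdeal) (cone r.asIdeal) (isLimit r.asIdeal) i₀ (g i₀ ≫ W.ι) hQ
  rw [reassoc_of% hg] at hj
  haveI : LocallyOfFinitePresentation (Spec.map (CommRingCat.ofHom (cst j.unop))) :=
    (HasRingHomProperty.Spec_iff (P := @LocallyOfFinitePresentation)).2 (finitePresentation_cst _)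
  haveI : IsPreimmersion (Spec.map (CommRingCat.ofHom (cst j.unop))) := by
    rw [show CommRingCat.ofHom (cst j.unop) = CommRingCat.ofHom (Ideal.Quotient.mk j.unop.J) ≫
      CommRingCat.ofHom (algebraMap _ (ring j.unop)) from rfl, Spec.map_comp]
    haveI : IsClosedImmersion (Spec.map (CommRingCat.ofHom (Ideal.Quotient.mk j.unop.J))) :=
      IsClosedImmersion.spec_of_surjective _ Ideal.Quotient.mk_surjective
    haveI : IsOpenImmersion (Spec.map (CommRingCat.ofHom (algebraMap (Γ(S, W) ⧸ j.unop.J) (ring j.unop)))) :=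
      IsOpenImmersion.of_isLocalization (Ideal.Quotient.mk j.unop.J j.unop.a)
    infer_instance
  haveI : IsAffine W.toScheme := hW
  haveI : LocallyOfFinitePresentation (g j) := inferInstance
  haveI : IsPreimmersion (g j) := inferInstance
  haveI : QuasiCompact (g j) := inferInstance
  refine Set.mem_sUnion.2 ⟨Subtype.val ⁻¹' Set.range (g j), ⟨?_, ?_⟩, ?_⟩
  · refine Topology.IsLocallyConstructible.preimage_of_isOpenEmbedding ?_ isOpen_univ.isOpenEmbedding_subtypeVal
    rw [← Set.image_univ]
    exact Scheme.Hom.isLocallyConstructible_image _ Topology.IsLocallyConstructible.univ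
  · rintro ⟨y, -⟩ ⟨z, rfl⟩
    show Q (S.fromSpecResidueField ((g j ≫ W.ι) z))
    exact (transfer _ z).1 (hstable _ _ hj)
  · refine ⟨(cone r.asIdeal).π.app j z₀, ?_⟩
    rw [← Scheme.Hom.comp_apply, hk]
    exact hz₀

end Groth.Agent.IndSpread
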